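import Mathlib

set_option autoImplicit false
set_option maxRecDepth 20000

/-! The letters on a hundred points, words for two generators of the simple group (owner: helper25). -/

namespace CfsgLib.Sporadic.HNSub

/-- packed permutations of the six letters -/
def permData : List ℕ := [
  0x1203805c4c0c0200e40a034490f44408811074460c41412c3b03c0006c601443c168630a0540c85808c2d0703e064401644a1401217462068050542f0404514c5f0d02610829060160b04704c2e0240410c570205e0180215441134370fc2b1842a0d45209c3a1583313c0116c0301c5c0942102c1f0d8240301e0384e,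
  0x1203805c4c0c0200e40a034490f44408811074460c41412c3b03c0006c601443c168630a0540c85808c2d0703e064401644a1401217462068050542f0404514c5f0d02610829060160b04704c2e0240410c570205e0180215441134370fc2b1842a0d45209c3a1583313c0116c0301c5c0942102c1f0d8240301e0384e,
  0xc05a098111741517c141341312c570c839120551804107008014290f4560240b0d45413c380880d1643a06c010b42b1701e100441300f0a02c0d86101c581181d05c63094210582a11c311240a0ec000804509c230902f1442e1483e0083c030190d01214c5b188420dc4a00c180385e140430cc060104e0401a0fc1f,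
  0xb8110d0531740a17c3d0486210c321604c1504804c1b0740911c0416c391640e09c550a4310883a020101483b0041a13418094421584603c351241501c570a0630781c0fc360f82a13837084610b41f080450b0230003c0c051104020580c0bc2b1785c16814180030e00b110171282612c500cc0613c050341910024,
  0x18c380a0600c0230e45c0e84d1644409856154460c4271142f094241684c0c83c06c4805c54144580802d070400643e0f44a0d05b174620dc360d43b0cc4b14c5f140221082c060160a4611485713c4e1782e0844307c1e074411241a0fc2b11c2a054130500d04410024010480301c0a03c0802c06014000300203804,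
  0x18c380a0600c0230e45c0e84d1644409856154460c4271142f094241684c0c83c06c4805c54144580802d070400643e0f44a0d05b174620dc360d43b0cc4b14c5f140221082c060160a4611485713c4e1782e0844307c1e074411241a0fc2b11c2a054130500d04410024010480301c0a03c0802c06014000300203804]

/-- words of the two generators -/
def genWordsHs : List (List ℕ) := [[3, 0, 2, 0, 3, 3, 5, 0, 2, 1, 3, 0, 2, 5, 2, 5, 2, 1, 3, 1, 3, 1, 2, 1, 5, 3, 3, 1, 3, 0, 2, 5, 0, 2, 4, 1, 3, 5, 0, 3, 5, 0, 3],
  [1, 3, 3, 5, 3, 3, 5, 3, 0, 3, 0, 2, 1, 2, 5, 3, 4, 3, 3, 4, 3, 1, 2, 5, 2, 0, 3, 5, 3, 1, 1, 3, 1, 2, 1, 5, 3, 3, 1, 3, 0, 2, 5, 0, 2, 1, 3, 1, 2, 1, 5, 3, 3, 0, 3, 5, 2, 2, 0, 5]]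

/-- the transpositions of the outer involution -/
def zPairs : List (Fin 100 × Fin 100) := [(0, 4), (1, 14), (3, 12), (7, 11), (9, 15), (13, 18), (19, 20), (22, 42), (23, 71), (24, 43), (25, 63), (27, 73), (28, 65), (32, 67), (34, 46), (35, 94), (36, 78), (37, 79), (38, 87), (39, 82), (40, 97), (45, 66), (47, 80), (48, 95), (49, 83), (50, 75), (52, 59), (56, 98), (57, 93), (58, 91), (60, 74), (68, 88), (69, 81), (70, 84), (77, 90)]

/-- steps reaching every point from the first, in order -/
def reachSteps : List (ℕ × ℕ) := [(0, 0), (0, 2), (0, 4), (78, 2), (78, 4), (31, 0), (41, 0), (41, 2), (44, 2), (71, 0), (71, 2), (71, 4), (33, 0), (33, 2), (40, 2), (40, 4), (79, 0), (79, 2), (79, 4), (23, 2), (8, 2), (39, 0), (39, 2), (39, 4), (49, 0), (49, 2), (97, 2), (15, 2), (15, 4), (5, 0), (37, 2), (12, 0), (12, 2), (67, 0), (67, 2), (67, 4), (19, 4), (73, 0), (73, 2), (73, 4), (82, 2), (83, 2), (70, 0), (70, 2), (38, 0), (38, 2), (38, 4), (55, 0), (9, 2), (59, 2), (59, 4), (3, 2), (24, 0), (24,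 2), (35, 4), (89, 0), (89, 2), (20, 2), (90, 4), (53, 0), (65, 0), (96, 0), (96, 2), (84, 2), (56, 0), (46, 2), (46, 4), (10, 0), (87, 2), (26, 2), (80, 4), (64, 2), (16, 0), (16, 2), (43, 2), (60, 0), (60, 2), (75, 0), (18, 0), (18, 2), (18, 4), (76, 2), (85, 0), (85, 2), (99, 2), (34, 2), (50, 2), (1, 0), (1, 2), (51, 2), (66, 0), (22, 0), (22, 2), (74, 2), (30, 0), (58, 2), (86, 2), (48, 0), (57, 0)]

end CfsgLib.Sporadic.HNSub
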